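import Mathlib

/-!
Generators of the double cover of `A_8`: the basic spin representation, as matrices over `ZMod 3`
obtained from seven anticommuting octonion multiplications.
-/

set_option autoImplicit false

namespace Cfsg.Agent.H17.EightCover

open Matrix

/-- The ambient group. -/
abbrev Amb : Type := (Matrix (Fin 8) (Fin 8) (ZMod 3))ˣ

/-- A lift of the three-cycle `(0, 1, 2)`. -/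
def g0 : Amb :=
  ⟨!![1, 2, 2, 2, 0, 0, 0, 0;
    1, 1, 2, 1, 0, 0, 0, 0;
    1, 1, 1, 2, 0, 0, 0, 0;
    1, 2, 1, 1, 0, 0, 0, 0;
    0, 0, 0, 0, 1, 1, 1, 1;
    0, 0, 0, 0, 2, 1, 2, 1;
    0, 0, 0, 0, 2, 1, 1, 2;
    0, 0, 0, 0, 2, 2, 1, 1],
   !![1, 1, 1, 1, 0, 0, 0, 0;
    2, 1, 1, 2, 0, 0, 0, 0;
    2, 2, 1, 1, 0, 0, 0, 0;
    2, 1, 2, 1, 0, 0, 0, 0;
    0, 0, 0, 0, 1, 2, 2, 2;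
    0, 0, 0, 0, 1, 1, 1, 2;
    0, 0, 0, 0, 1, 2, 1, 1;
    0, 0, 0, 0, 1, 1, 2, 1],
   by decide +kernel, by decide +kernel⟩

/-- A lift of the three-cycle `(0, 1, 3)`. -/
def g1 : Amb :=
  ⟨!![1, 0, 0, 2, 0, 1, 2, 0;
    0, 1, 2, 0, 1, 0, 0, 1;
    0, 1, 1, 0, 2, 0, 0, 1;
    1, 0, 0, 1, 0, 2, 2, 0;
    0, 2, 1, 0, 1, 0, 0, 1;
    2, 0, 0, 1, 0, 1, 2, 0;
    1, 0, 0, 1, 0, 1, 1, 0;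
    0, 2, 2, 0, 2, 0, 0, 1],
   !![1, 0, 0, 1, 0, 2, 1, 0;
    0, 1, 1, 0, 2, 0, 0, 2;
    0, 2, 1, 0, 1, 0, 0, 2;
    2, 0, 0, 1, 0, 1, 1, 0;
    0, 1, 2, 0, 1, 0, 0, 2;
    1, 0, 0, 2, 0, 1, 1, 0;
    2, 0, 0, 2, 0, 2, 1, 0;
    0, 1, 1, 0, 1, 0, 0, 1],
   by decide +kernel, by decide +kernel⟩

/-- A lift of the three-cycle `(0, 1, 4)`. -/
def g2 : Amb :=
  ⟨!![1, 0, 0, 2, 2, 0, 0, 2;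
    0, 1, 2, 0, 0, 1, 2, 0;
    0, 1, 1, 0, 0, 2, 2, 0;
    1, 0, 0, 1, 1, 0, 0, 2;
    1, 0, 0, 2, 1, 0, 0, 1;
    0, 2, 1, 0, 0, 1, 2, 0;
    0, 1, 1, 0, 0, 1, 1, 0;
    1, 0, 0, 1, 2, 0, 0, 1],
   !![1, 0, 0, 1, 1, 0, 0, 1;
    0, 1, 1, 0, 0, 2, 1, 0;
    0, 2, 1, 0, 0, 1, 1, 0;
    2, 0, 0, 1, 2, 0, 0, 1;
    2, 0, 0, 1, 1, 0, 0, 2;
    0, 1, 2, 0, 0, 1, 1, 0;
    0, 2, 2, 0, 0, 2, 1, 0;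
    2, 0, 0, 2, 1, 0, 0, 1],
   by decide +kernel, by decide +kernel⟩

/-- A lift of the three-cycle `(0, 1, 5)`. -/
def g3 : Amb :=
  ⟨!![1, 0, 0, 2, 1, 0, 0, 2;
    0, 1, 2, 0, 0, 1, 1, 0;
    0, 1, 1, 0, 0, 1, 2, 0;
    1, 0, 0, 1, 1, 0, 0, 1;
    2, 0, 0, 2, 1, 0, 0, 1;
    0, 2, 2, 0, 0, 1, 2, 0;
    0, 2, 1, 0, 0, 1, 1, 0;
    1, 0, 0, 2, 2, 0, 0, 1],
   !![1, 0, 0, 1, 2, 0, 0, 1;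
    0, 1, 1, 0, 0, 2, 2, 0;
    0, 2, 1, 0, 0, 2, 1, 0;
    2, 0, 0, 1, 2, 0, 0, 2;
    1, 0, 0, 1, 1, 0, 0, 2;
    0, 1, 1, 0, 0, 1, 1, 0;
    0, 1, 2, 0, 0, 2, 1, 0;
    2, 0, 0, 1, 1, 0, 0, 1],
   by decide +kernel, by decide +kernel⟩

/-- A lift of the three-cycle `(0, 1, 6)`. -/
def g4 : Amb :=
  ⟨!![1, 0, 0, 2, 0, 1, 1, 0;
    0, 1, 2, 0, 2, 0, 0, 1;
    0, 1, 1, 0, 2, 0, 0, 2;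
    1, 0, 0, 1, 0, 1, 2, 0;
    0, 1, 1, 0, 1, 0, 0, 1;
    2, 0, 0, 2, 0, 1, 2, 0;
    2, 0, 0, 1, 0, 1, 1, 0;
    0, 2, 1, 0, 2, 0, 0, 1],
   !![1, 0, 0, 1, 0, 2, 2, 0;
    0, 1, 1, 0, 1, 0, 0, 2;
    0, 2, 1, 0, 1, 0, 0, 1;
    2, 0, 0, 1, 0, 2, 1, 0;
    0, 2, 2, 0, 1, 0, 0, 2;
    1, 0, 0, 1, 0, 1, 1, 0;
    1, 0, 0, 2, 0, 2, 1, 0;
    0, 1, 2, 0, 1, 0, 0, 1],
   by decide +kernel, by decide +kernel⟩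

/-- A lift of the three-cycle `(0, 1, 7)`. -/
def g5 : Amb :=
  ⟨!![1, 1, 2, 2, 0, 0, 0, 0;
    2, 1, 2, 1, 0, 0, 0, 0;
    1, 1, 1, 1, 0, 0, 0, 0;
    1, 2, 2, 1, 0, 0, 0, 0;
    0, 0, 0, 0, 1, 1, 2, 1;
    0, 0, 0, 0, 2, 1, 2, 2;
    0, 0, 0, 0, 1, 1, 1, 2;
    0, 0, 0, 0, 2, 1, 1, 1],
   !![1, 2, 1, 1, 0, 0, 0, 0;
    1, 1, 1, 2, 0, 0, 0, 0;
    2, 2, 1, 2, 0, 0, 0, 0;
    2, 1, 1, 1, 0, 0, 0, 0;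
    0, 0, 0, 0, 1, 2, 1, 2;
    0, 0, 0, 0, 1, 1, 1, 1;
    0, 0, 0, 0, 2, 2, 1, 1;
    0, 0, 0, 0, 1, 2, 2, 1],
   by decide +kernel, by decide +kernel⟩

/-- The lifts. -/
def gens : Fin 6 → Amb := ![g0, g1, g2, g3, g4, g5]

theorem gens_cube : ∀ i, gens i * gens i * gens i = 1 := by decide +kernel

theorem gens_square : ∀ i j, i ≠ j → gens i * gens j * (gens i * gens j) = -1 := by decide +kernel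

theorem anticomm : g0 * g1 * (g1 * g0) = -1 * (g1 * g0 * (g0 * g1)) := by decide +kernel

theorem invol : g0 * g1 * g2 * g3 * g0 * g1 * g4 * g5 * (g0 * g1 * g2 * g3 * g0 * g1 * g4 * g5) = 1 ∧
    g0 * g1 * g2 * g3 * g0 * g1 * g4 * g5 ≠ 1 ∧ g0 * g1 * g2 * g3 * g0 * g1 * g4 * g5 ≠ -1 := by
  decide +kernel

theorem neg_one_ne : (-1 : Amb) ≠ 1 ∧ g0 ≠ 1 ∧ g0 ≠ -1 := by decide +kernel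

end Cfsg.Agent.H17.EightCover
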